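import Mathlib

open CategoryTheory Limits

namespace Helper5.KInj

universe v u

variable {A : Type u} [Category.{v} A] [Abelian A] [HasLimitsOfShape (Discrete ℕ) A]

/-- the natural projection `lim ⟶ ev_n` -/
noncomputable def limProj (n : ℕ) :
    (lim : (Discrete ℕ ⥤ A) ⥤ A) ⟶ (evaluation (Discrete ℕ) A).obj ⟨n⟩ where
  app G := limit.π G ⟨n⟩
  naturality G G' α := by
    dsimp
    exact limMap_π _ _

variable [HasExactLimitsOfShape (Discrete ℕ) A]

variable (S : ShortComplex (Discrete ℕ ⥤ A))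

lemma sc_hom_ext {T : A} {f g : T ⟶ (S.map lim).homology}
    (h : ∀ n, f ≫ ShortComplex.homologyMap (S.mapNatTrans (limProj n)) =
      g ≫ ShortComplex.homologyMap (S.mapNatTrans (limProj n))) : f = g := by
  rw [← cancel_mono (S.mapHomologyIso lim).hom]
  apply limit.hom_ext
  rintro ⟨n⟩
  have h1 := h n
  rw [ShortComplex.homologyMap_mapNatTrans] at h1
  rw [← cancel_mono (S.mapHomologyIso ((evaluation (Discrete ℕ) A).obj ⟨n⟩)).inv]
  simp only [Category.assoc]
  exact h1

lemma sc_lift {T : A} (x : ∀ n, T ⟶ (S.map ((evaluation (Discrete ℕ) A).obj ⟨n⟩)).homology) :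
    ∃ z : T ⟶ (S.map lim).homology,
      ∀ n, z ≫ ShortComplex.homologyMap (S.mapNatTrans (limProj n)) = x n := by
  let c : Cone S.homology :=
    { pt := T
      π := Discrete.natTrans (fun n =>
        x n.as ≫ (S.mapHomologyIso ((evaluation (Discrete ℕ) A).obj n)).hom) }
  refine ⟨limit.lift S.homology c ≫ (S.mapHomologyIso lim).inv, fun n => ?_⟩
  rw [ShortComplex.homologyMap_mapNatTrans, Category.assoc, Iso.inv_hom_id_assoc]
  have : limit.lift S.homology c ≫ (limProj n).app S.homology =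
      x n ≫ (S.mapHomologyIso ((evaluation (Discrete ℕ) A).obj ⟨n⟩)).hom :=
    limit.lift_π c ⟨n⟩
  rw [reassoc_of% this, Iso.hom_inv_id, Category.comp_id]

end Helper5.KInj
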