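import Mathlib
import Groth.Agent.Lib.Helper5.KInj.ProdH

/-!
# Countable products of cochain complexes, termwise
-/

open CategoryTheory Limits

namespace Helper5.KInj

universe v u

variable {A : Type u} [Category.{v} A] [Abelian A] [HasLimitsOfShape (Discrete ℕ) A]

/-- a family of complexes as a complex in the functor category -/
noncomputable def famCx (I : ℕ → CochainComplex A ℤ) : CochainComplex (Discrete ℕ ⥤ A) ℤ where
  X i := Discrete.functor (fun n => (I n).X i)
  d i j := Discrete.natTrans (fun n => (I n.as).d i j)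
  shape i j h := by
    ext ⟨n⟩
    simp [(I n).shape i j h]
  d_comp_d' i j k _ _ := by
    ext ⟨n⟩
    simp

/-- the termwise product of a family of complexes -/
noncomputable def prodCx (I : ℕ → CochainComplex A ℤ) : CochainComplex A ℤ :=
  ((lim : (Discrete ℕ ⥤ A) ⥤ A).mapHomologicalComplex (ComplexShape.up ℤ)).obj (famCx I)

variable (I : ℕ → CochainComplex A ℤ)

lemma prodCx_X (i : ℤ) : (prodCx I).X i = ∏ᶜ (fun n => (I n).X i) := rfl

lemma prodCx_d (i j : ℤ) : (prodCx I).d i j = Limits.Pi.map (fun n => (I n).d i j) := rfl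

namespace prodCx

/-- the projections -/
noncomputable def π (n : ℕ) : prodCx I ⟶ I n where
  f i := Pi.π (fun n => (I n).X i) n
  comm' i j _ := (Limits.Pi.map_π (fun n => (I n).d i j) n).symm

variable {I}

/-- morphisms to a term of the product -/
noncomputable def liftX {T : A} (i : ℤ) (x : ∀ n, T ⟶ (I n).X i) : T ⟶ (prodCx I).X i :=
  Pi.lift x

@[reassoc (attr := simp)]
lemma liftX_π {T : A} (i : ℤ) (x : ∀ n, T ⟶ (I n).X i) (n : ℕ) :
    liftX i x ≫ (π I n).f i = x n :=
  Pi.lift_π _ _

lemma hom_extX {T : A} {i : ℤ} {f g : T ⟶ (prodCx I).X i}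
    (h : ∀ n, f ≫ (π I n).f i = g ≫ (π I n).f i) : f = g :=
  Pi.hom_ext _ _ h

/-- morphisms to the product -/
noncomputable def lift {M : CochainComplex A ℤ} (g : ∀ n, M ⟶ I n) : M ⟶ prodCx I where
  f i := liftX i (fun n => (g n).f i)
  comm' i j _ := by
    apply hom_extX
    intro n
    rw [Category.assoc, Category.assoc, liftX_π, ← (π I n).comm i j, liftX_π_assoc]
    exact (g n).comm i j

@[reassoc (attr := simp)]
lemma lift_π {M : CochainComplex A ℤ} (g : ∀ n, M ⟶ I n) (n : ℕ) : lift g ≫ π I n = g n := by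
  ext i
  exact liftX_π _ _ _

lemma hom_ext {M : CochainComplex A ℤ} {f g : M ⟶ prodCx I}
    (h : ∀ n, f ≫ π I n = g ≫ π I n) : f = g := by
  ext i
  apply hom_extX
  intro n
  exact HomologicalComplex.congr_hom (h n) i

end prodCx

open CochainComplex HomComplex

/-- a countable product of K-injective complexes is K-injective -/
theorem isKInjective_prodCx [∀ n, (I n).IsKInjective] : (prodCx I).IsKInjective where
  nonempty_homotopy_zero {M} f hM := by
    have hex : ∀ n, ∃ z : Cochain M (I n) (-1),
        Cochain.ofHom (f ≫ prodCx.π I n) = δ (-1) 0 z := by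
      intro n
      obtain ⟨z, hz⟩ := Cochain.equivHomotopy _ _
        (IsKInjective.homotopyZero (f ≫ prodCx.π I n) hM)
      refine ⟨z, ?_⟩
      rw [hz, Cochain.ofHom_zero, add_zero]
    choose zn hzn using hex
    let z : Cochain M (prodCx I) (-1) :=
      Cochain.mk (fun p q hpq => prodCx.liftX q (fun n => (zn n).v p q hpq))
    have hz : ∀ n, z.comp (Cochain.ofHom (prodCx.π I n)) (add_zero (-1)) = zn n := by
      intro n
      ext p q hpq
      rw [Cochain.comp_zero_cochain_v, Cochain.ofHom_v]
      exact prodCx.liftX_π _ _ _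
    refine ⟨(Cochain.equivHomotopy f 0).symm ⟨z, ?_⟩⟩
    rw [Cochain.ofHom_zero, add_zero]
    ext p
    apply prodCx.hom_extX
    intro n
    have h1 := Cochain.congr_v (hzn n) p p (add_zero p)
    have h2 : (δ (-1) 0 z).comp (Cochain.ofHom (prodCx.π I n)) (add_zero 0) =
        δ (-1) 0 (zn n) := by
      rw [← δ_comp_ofHom, hz]
    have h3 := Cochain.congr_v h2 p p (add_zero p)
    rw [Cochain.comp_zero_cochain_v, Cochain.ofHom_v] at h3
    rw [Cochain.ofHom_v] at h1
    rw [Cochain.ofHom_v, h3, ← h1]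
    rfl

section Homology

variable [HasExactLimitsOfShape (Discrete ℕ) A]

theorem prodCx.homology_hom_ext (m : ℤ) {T : A} {f g : T ⟶ (prodCx I).homology m}
    (h : ∀ n, f ≫ HomologicalComplex.homologyMap (prodCx.π I n) m =
      g ≫ HomologicalComplex.homologyMap (prodCx.π I n) m) : f = g :=
  sc_hom_ext ((famCx I).sc m) h

theorem prodCx.homology_lift (m : ℤ) {T : A} (x : ∀ n, T ⟶ (I n).homology m) :
    ∃ z : T ⟶ (prodCx I).homology m,
      ∀ n, z ≫ HomologicalComplex.homologyMap (prodCx.π I n) m = x n :=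
  sc_lift ((famCx I).sc m) x

end Homology

end Helper5.KInj
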