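import Mathlib

/-!
# Elementary algebra of towers of abelian groups
-/

namespace Helper5.KInj

universe w

/-- If the transition maps of a tower of abelian groups are surjective from some index on,
then `1 - shift` is surjective on the product. -/
theorem exists_sub_eq : ∀ (N : ℕ) {G : ℕ → Type w} [∀ n, AddCommGroup (G n)]
    (p : ∀ n, G (n + 1) →+ G n) (_ : ∀ n, N ≤ n → Function.Surjective (p n))
    (y : ∀ n, G n), ∃ x : ∀ n, G n, ∀ n, x n - p n (x (n + 1)) = y n
  | 0, G, _, p, hp, y => by
    let x : ∀ n, G n := fun n => Nat.rec (motive := fun n => G n) 0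
      (fun n xn => Function.surjInv (hp n (Nat.zero_le n)) (xn - y n)) n
    refine ⟨x, fun n => ?_⟩
    have h1 : x (n + 1) = Function.surjInv (hp n (Nat.zero_le n)) (x n - y n) := rfl
    rw [h1, Function.surjInv_eq (hp n (Nat.zero_le n))]
    abel
  | N + 1, G, _, p, hp, y => by
    obtain ⟨x', hx'⟩ := exists_sub_eq N (G := fun n => G (n + 1)) (fun n => p (n + 1))
      (fun n hn => hp (n + 1) (Nat.succ_le_succ hn)) (fun n => y (n + 1))
    let x : ∀ n, G n := fun n => match n with
      | 0 => y 0 + p 0 (x' 0)
      | n + 1 => x' n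
    refine ⟨x, fun n => ?_⟩
    cases n with
    | zero =>
      change y 0 + p 0 (x' 0) - p 0 (x' 0) = y 0
      abel
    | succ n => exact hx' n

/-- If the transition maps of a tower of abelian groups are injective from some index `N` on,
a compatible family vanishing at `N` vanishes. -/
theorem eq_zero_of_compat : ∀ (N : ℕ) {G : ℕ → Type w} [∀ n, AddCommGroup (G n)]
    (p : ∀ n, G (n + 1) →+ G n) (_ : ∀ n, N ≤ n → Function.Injective (p n))
    (x : ∀ n, G n) (_ : ∀ n, x n = p n (x (n + 1))) (_ : x N = 0), ∀ n, x n = 0
  | 0, G, _, p, hp, x, hx, h0 => by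
    intro n
    induction n with
    | zero => exact h0
    | succ n ih =>
      apply hp n (Nat.zero_le n)
      rw [← hx n, ih, map_zero]
  | N + 1, G, _, p, hp, x, hx, h0 => by
    have h := eq_zero_of_compat N (G := fun n => G (n + 1)) (fun n => p (n + 1))
      (fun n hn => hp (n + 1) (Nat.succ_le_succ hn)) (fun n => x (n + 1))
      (fun n => hx (n + 1)) h0
    intro n
    cases n with
    | zero => rw [hx 0, h 0, map_zero]
    | succ n => exact h n

end Helper5.KInj
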