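import Mathlib
import Groth.Agent.Lib.Helper5.KInj.TowerAlg
import Groth.Agent.Lib.Helper5.KInj.ProdCx

/-!
# The limit of a tower of complexes with termwise split epi transition maps
-/

open CategoryTheory Limits CochainComplex

namespace Helper5.KInj

universe v u

variable {A : Type u} [Category.{v} A] [Abelian A] [HasLimitsOfShape (Discrete ℕ) A]

variable (I : ℕ → CochainComplex A ℤ) (p : ∀ n, I (n + 1) ⟶ I n)

/-- the shift map on the product -/
noncomputable def shiftMap : prodCx I ⟶ prodCx I :=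
  prodCx.lift (fun n => prodCx.π I (n + 1) ≫ p n)

@[reassoc (attr := simp)]
lemma shiftMap_π (n : ℕ) : shiftMap I p ≫ prodCx.π I n = prodCx.π I (n + 1) ≫ p n :=
  prodCx.lift_π _ _

/-- `1 - shift` -/
noncomputable def Dm : prodCx I ⟶ prodCx I := 𝟙 _ - shiftMap I p

@[reassoc]
lemma Dm_π (n : ℕ) : Dm I p ≫ prodCx.π I n = prodCx.π I n - prodCx.π I (n + 1) ≫ p n := by
  rw [Dm, Preadditive.sub_comp, Category.id_comp, shiftMap_π]

@[reassoc]
lemma Dm_f_π (n : ℕ) (k : ℤ) : (Dm I p).f k ≫ (prodCx.π I n).f k =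
    (prodCx.π I n).f k - (prodCx.π I (n + 1)).f k ≫ (p n).f k := by
  have := HomologicalComplex.congr_hom (Dm_π I p n) k
  simpa using this

variable (hp : ∀ n k, ∃ σ : (I n).X k ⟶ (I (n + 1)).X k, σ ≫ (p n).f k = 𝟙 _)

include hp in
lemma exists_section_Dm (k : ℤ) : ∃ s : (prodCx I).X k ⟶ (prodCx I).X k, s ≫ (Dm I p).f k = 𝟙 _ := by
  obtain ⟨x, hx⟩ := exists_sub_eq 0 (G := fun n => ((prodCx I).X k ⟶ (I n).X k))
    (fun n => Preadditive.rightComp _ ((p n).f k))
    (fun n _ f => by
      obtain ⟨σ, hσ⟩ := hp n k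
      exact ⟨f ≫ σ, by
        change (f ≫ σ) ≫ (p n).f k = f
        rw [Category.assoc, hσ, Category.comp_id]⟩)
    (fun n => (prodCx.π I n).f k)
  refine ⟨prodCx.liftX k x, ?_⟩
  apply prodCx.hom_extX
  intro n
  rw [Category.assoc, Dm_f_π, Preadditive.comp_sub, prodCx.liftX_π, prodCx.liftX_π_assoc,
    Category.id_comp]
  exact hx n

include hp in
lemma epi_Dm : Epi (Dm I p) := by
  apply HomologicalComplex.epi_of_epi_f
  intro k
  obtain ⟨s, hs⟩ := exists_section_Dm I p hp k
  exact (IsSplitEpi.mk' ⟨s, hs⟩).epi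

/-- the limit of the tower -/
noncomputable def holim : CochainComplex A ℤ := kernel (Dm I p)

/-- the inclusion of the limit in the product -/
noncomputable def holimι : holim I p ⟶ prodCx I := kernel.ι (Dm I p)

@[reassoc (attr := simp)]
lemma holimι_Dm : holimι I p ≫ Dm I p = 0 := kernel.condition _

instance : Mono (holimι I p) := equalizer.ι_mono

@[reassoc]
lemma holimι_π (n : ℕ) :
    holimι I p ≫ prodCx.π I n = holimι I p ≫ prodCx.π I (n + 1) ≫ p n := by
  have h := holimι_Dm_assoc I p (prodCx.π I n)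
  rw [Dm_π, Preadditive.comp_sub, zero_comp, sub_eq_zero] at h
  exact h

/-- the short complex `0 → holim → ∏ → ∏ → 0` -/
noncomputable def holimSC : ShortComplex (CochainComplex A ℤ) :=
  ShortComplex.mk (holimι I p) (Dm I p) (holimι_Dm I p)

lemma holimSC_exact : (holimSC I p).Exact :=
  ShortComplex.exact_of_f_is_kernel _ (kernelIsKernel (Dm I p))

include hp in
lemma holimSC_shortExact : (holimSC I p).ShortExact :=
  haveI : Mono (holimSC I p).f := by dsimp only [holimSC]; infer_instance
  haveI : Epi (holimSC I p).g := epi_Dm I p hp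
  ShortComplex.ShortExact.mk (holimSC_exact I p)

/-- lifting a map to the limit -/
noncomputable def holimLift {K : CochainComplex A ℤ} (a : ∀ n, K ⟶ I n)
    (ha : ∀ n, a (n + 1) ≫ p n = a n) : K ⟶ holim I p :=
  kernel.lift (Dm I p) (prodCx.lift a) (by
    apply prodCx.hom_ext
    intro n
    rw [Category.assoc, Dm_π, Preadditive.comp_sub, prodCx.lift_π, prodCx.lift_π_assoc, ha,
      sub_self, zero_comp])

@[reassoc (attr := simp)]
lemma holimLift_ι {K : CochainComplex A ℤ} (a : ∀ n, K ⟶ I n)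
    (ha : ∀ n, a (n + 1) ≫ p n = a n) : holimLift I p a ha ≫ holimι I p = prodCx.lift a :=
  kernel.lift_ι _ _ _

@[reassoc (attr := simp)]
lemma holimLift_ι_π {K : CochainComplex A ℤ} (a : ∀ n, K ⟶ I n)
    (ha : ∀ n, a (n + 1) ≫ p n = a n) (n : ℕ) :
    holimLift I p a ha ≫ holimι I p ≫ prodCx.π I n = a n := by
  rw [holimLift_ι_assoc, prodCx.lift_π]

include hp in
theorem isKInjective_holim [∀ n, (I n).IsKInjective] : (holim I p).IsKInjective := by
  have hex : ∀ k : ℤ, Nonempty (((holimSC I p).map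
      (HomologicalComplex.eval A (ComplexShape.up ℤ) k)).Splitting) := by
    intro k
    obtain ⟨s, hs⟩ := exists_section_Dm I p hp k
    refine ⟨ShortComplex.Splitting.ofExactOfSection _
      ((holimSC_exact I p).map (HomologicalComplex.eval A (ComplexShape.up ℤ) k)) s hs ?_⟩
    change Mono ((holimι I p).f k)
    infer_instance
  let σ := fun k => (hex k).some
  have hT : CochainComplex.trianglehOfDegreewiseSplit (holimSC I p) σ ∈
      distTriang (HomotopyCategory A (ComplexShape.up ℤ)) :=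
    (HomotopyCategory.distinguished_iff_iso_trianglehOfDegreewiseSplit _).2
      ⟨_, σ, ⟨Iso.refl _⟩⟩
  haveI := isKInjective_prodCx I
  rw [isKInjective_iff_rightOrthogonal]
  exact ObjectProperty.ext_of_isTriangulatedClosed₁ _ _ hT
    (IsKInjective.rightOrthogonal (prodCx I)) (IsKInjective.rightOrthogonal (prodCx I))

end Helper5.KInj
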