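import Mathlib
import Groth.Agent.Lib.Helper5.KInj.Holim

/-!
# The limit of a tower computing the cohomology of `K`
-/

open CategoryTheory Limits CochainComplex HomologicalComplex

namespace Helper5.KInj

universe v u

variable {A : Type u} [Category.{v} A] [Abelian A] [HasLimitsOfShape (Discrete ℕ) A]
  [HasExactLimitsOfShape (Discrete ℕ) A]

variable (I : ℕ → CochainComplex A ℤ) (p : ∀ n, I (n + 1) ⟶ I n)

lemma homologyMap_Dm_π (n : ℕ) (j : ℤ) :
    homologyMap (Dm I p) j ≫ homologyMap (prodCx.π I n) j =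
      homologyMap (prodCx.π I n) j - homologyMap (prodCx.π I (n + 1)) j ≫ homologyMap (p n) j := by
  rw [← homologyMap_comp, Dm_π, homologyMap_sub, homologyMap_comp]

/-- if the transition maps are eventually isomorphisms on `H^j`, then `H^j(1 - shift)` is a
split epimorphism -/
lemma exists_section_homologyMap_Dm (j : ℤ) (N : ℕ)
    (hN : ∀ n, N ≤ n → IsIso (homologyMap (p n) j)) :
    ∃ z : (prodCx I).homology j ⟶ (prodCx I).homology j, z ≫ homologyMap (Dm I p) j = 𝟙 _ := by
  obtain ⟨x, hx⟩ := exists_sub_eq N (G := fun n => ((prodCx I).homology j ⟶ (I n).homology j))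
    (fun n => Preadditive.rightComp _ (homologyMap (p n) j))
    (fun n hn f => by
      haveI := hN n hn
      exact ⟨f ≫ inv (homologyMap (p n) j), by
        change (f ≫ inv (homologyMap (p n) j)) ≫ homologyMap (p n) j = f
        rw [Category.assoc, IsIso.inv_hom_id, Category.comp_id]⟩)
    (fun n => homologyMap (prodCx.π I n) j)
  obtain ⟨z, hz⟩ := prodCx.homology_lift I j x
  refine ⟨z, ?_⟩
  apply prodCx.homology_hom_ext I j
  intro n
  rw [Category.assoc, homologyMap_Dm_π, Preadditive.comp_sub, hz, reassoc_of% (hz (n + 1)),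
    Category.id_comp]
  exact hx n

variable (hp : ∀ n k, ∃ σ : (I n).X k ⟶ (I (n + 1)).X k, σ ≫ (p n).f k = 𝟙 _)

include hp in
/-- if the transition maps are eventually isomorphisms on `H^(m-1)`, then
`H^m(lim) → H^m(∏)` is a monomorphism -/
lemma mono_homologyMap_holimι (j m : ℤ) (hjm : j + 1 = m) (N : ℕ)
    (hN : ∀ n, N ≤ n → IsIso (homologyMap (p n) j)) :
    Mono (homologyMap (holimι I p) m) := by
  have hS := holimSC_shortExact I p hp
  obtain ⟨z, hz⟩ := exists_section_homologyMap_Dm I p j N hN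
  have hδ : hS.δ j m hjm = 0 := by
    have h1 : homologyMap (Dm I p) j ≫ hS.δ j m hjm = 0 := hS.comp_δ j m hjm
    have h2 : (z ≫ homologyMap (Dm I p) j) ≫ hS.δ j m hjm = 0 := by
      rw [Category.assoc, h1, comp_zero]
    rw [hz] at h2
    exact (Category.id_comp _).symm.trans h2
  exact (hS.homology_exact₁ j m hjm).mono_g hδ

include hp in
/-- if the transition maps are eventually isomorphisms on `H^(m-1)` and `H^m`, then
`H^m(lim) → H^m(I_N)` is a monomorphism for `N` large -/
lemma mono_homologyMap_holimι_π (j m : ℤ) (hjm : j + 1 = m) (N' : ℕ)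
    (hN' : ∀ n, N' ≤ n → IsIso (homologyMap (p n) j)) (N : ℕ)
    (hN : ∀ n, N ≤ n → IsIso (homologyMap (p n) m)) :
    Mono (homologyMap (holimι I p ≫ prodCx.π I N) m) := by
  haveI := mono_homologyMap_holimι I p hp j m hjm N' hN'
  apply Preadditive.mono_of_cancel_zero
  intro T f hf
  rw [← cancel_mono (homologyMap (holimι I p) m), zero_comp]
  apply prodCx.homology_hom_ext I m
  intro n
  rw [zero_comp, Category.assoc]
  refine eq_zero_of_compat N (G := fun n => (T ⟶ (I n).homology m))
    (fun n => Preadditive.rightComp _ (homologyMap (p n) m))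
    (fun n hn => ?_)
    (fun n => f ≫ homologyMap (holimι I p) m ≫ homologyMap (prodCx.π I n) m)
    (fun n => ?_) ?_ n
  · haveI := hN n hn
    intro g g' hgg'
    change g ≫ homologyMap (p n) m = g' ≫ homologyMap (p n) m at hgg'
    exact (cancel_mono _).1 hgg'
  · change _ = (f ≫ homologyMap (holimι I p) m ≫ homologyMap (prodCx.π I (n + 1)) m) ≫
      homologyMap (p n) m
    rw [← homologyMap_comp, holimι_π, Category.assoc, ← homologyMap_comp,
      ← homologyMap_comp, Category.assoc]
  · rw [← homologyMap_comp]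
    exact hf

include hp in
/-- the canonical map from `K` to the limit of a tower under `K` is a quasi-isomorphism
if the maps to the tower eventually are in each degree. -/
theorem quasiIso_holimLift {K : CochainComplex A ℤ} (a : ∀ n, K ⟶ I n)
    (ha : ∀ n, a (n + 1) ≫ p n = a n)
    (hqi : ∀ m : ℤ, ∃ N : ℕ, ∀ n, N ≤ n → QuasiIsoAt (a n) m) :
    QuasiIso (holimLift I p a ha) := by
  have hpiso : ∀ m : ℤ, ∃ N : ℕ, ∀ n, N ≤ n → IsIso (homologyMap (p n) m) := by
    intro m
    obtain ⟨N, hN⟩ := hqi m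
    refine ⟨N, fun n hn => ?_⟩
    haveI := hN n hn
    haveI : QuasiIsoAt (a (n + 1) ≫ p n) m := by
      rw [ha]
      exact hN n hn
    haveI := hN (n + 1) (hn.trans (Nat.le_succ n))
    haveI : QuasiIsoAt (p n) m := quasiIsoAt_of_comp_left (a (n + 1)) (p n) m
    exact (quasiIsoAt_iff_isIso_homologyMap (p n) m).1 inferInstance
  rw [quasiIso_iff]
  intro m
  rw [quasiIsoAt_iff_isIso_homologyMap]
  obtain ⟨N', hN'⟩ := hpiso (m - 1)
  obtain ⟨N, hN⟩ := hpiso m
  obtain ⟨N₀, hN₀⟩ := hqi m
  -- take `M = max N N₀`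
  let M := max N N₀
  haveI := mono_homologyMap_holimι_π I p hp (m - 1) m (by lia) N' hN' M
    (fun n hn => hN n ((le_max_left N N₀).trans hn))
  haveI : IsIso (homologyMap (a M) m) :=
    (quasiIsoAt_iff_isIso_homologyMap (a M) m).1 (hN₀ M (le_max_right N N₀))
  have hcomp : homologyMap (holimLift I p a ha) m ≫
      homologyMap (holimι I p ≫ prodCx.π I M) m = homologyMap (a M) m := by
    rw [← homologyMap_comp, holimLift_ι_π]
  haveI : IsSplitEpi (homologyMap (holimι I p ≫ prodCx.π I M) m) :=
    IsSplitEpi.mk' ⟨inv (homologyMap (a M) m) ≫ homologyMap (holimLift I p a ha) m, by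
      rw [Category.assoc, hcomp, IsIso.inv_hom_id]⟩
  haveI : IsIso (homologyMap (holimι I p ≫ prodCx.π I M) m) := isIso_of_mono_of_isSplitEpi _
  haveI : IsIso (homologyMap (holimLift I p a ha) m ≫
      homologyMap (holimι I p ≫ prodCx.π I M) m) := by
    rw [hcomp]
    infer_instance
  exact IsIso.of_isIso_comp_right _ (homologyMap (holimι I p ≫ prodCx.π I M) m)

end Helper5.KInj
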