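import Mathlib

/-!
# The tower of injective resolutions of the canonical truncations
-/

open CategoryTheory Limits CochainComplex ZeroObject

namespace Helper5.KInj

universe v u

variable {A : Type u} [Category.{v} A] [Abelian A]

/-- descent of a map to a strictly `≥ n` complex through the canonical truncation -/
noncomputable def descGE {K L : CochainComplex A ℤ} (φ : K ⟶ L) (n : ℤ) [L.IsStrictlyGE n] :
    K.truncGE n ⟶ L :=
  haveI : IsIso (L.πTruncGE n) := (isIso_πTruncGE_iff L n).2 inferInstance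
  truncGEMap φ n ≫ inv (L.πTruncGE n)

@[reassoc (attr := simp)]
lemma π_descGE {K L : CochainComplex A ℤ} (φ : K ⟶ L) (n : ℤ) [L.IsStrictlyGE n] :
    K.πTruncGE n ≫ descGE φ n = φ := by
  haveI : IsIso (L.πTruncGE n) := (isIso_πTruncGE_iff L n).2 inferInstance
  simp [descGE]

variable [EnoughInjectives A]

/-- a stage of the tower -/
structure Stage (K : CochainComplex A ℤ) (n : ℕ) where
  I : CochainComplex A ℤ
  strict : I.IsStrictlyGE (-((n : ℤ) + 1))
  inj : ∀ k, Injective (I.X k)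
  i : K.truncGE (-(n : ℤ)) ⟶ I
  qi : QuasiIso i

open CochainComplex.Plus.modelCategoryQuillen in
lemma nonempty_stage_zero (K : CochainComplex A ℤ) : Nonempty (Stage K 0) := by
  obtain ⟨L, i, _, hi', hinj, hL⟩ := exists_mono_quasiIso_injective
    (K.truncGE (-((0 : ℕ) : ℤ))) (-(((0 : ℕ) : ℤ) + 1)) (-((0 : ℕ) : ℤ)) (by simp)
  exact ⟨⟨L, hL, hinj, i, hi'⟩⟩

/-- the transition maps between truncations -/
noncomputable def trTrunc (K : CochainComplex A ℤ) (n : ℕ) :
    K.truncGE (-((n + 1 : ℕ) : ℤ)) ⟶ K.truncGE (-(n : ℤ)) :=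
  haveI : (K.truncGE (-(n : ℤ))).IsStrictlyGE (-((n + 1 : ℕ) : ℤ)) :=
    isStrictlyGE_of_ge _ _ (-(n : ℤ)) (by push_cast; lia)
  descGE (K.πTruncGE (-(n : ℤ))) (-((n + 1 : ℕ) : ℤ))

@[reassoc (attr := simp)]
lemma π_trTrunc (K : CochainComplex A ℤ) (n : ℕ) :
    K.πTruncGE (-((n + 1 : ℕ) : ℤ)) ≫ trTrunc K n = K.πTruncGE (-(n : ℤ)) := by
  haveI : (K.truncGE (-(n : ℤ))).IsStrictlyGE (-((n + 1 : ℕ) : ℤ)) :=
    isStrictlyGE_of_ge _ _ (-(n : ℤ)) (by push_cast; lia)
  exact π_descGE _ _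

open CochainComplex.Plus.modelCategoryQuillen in
lemma exists_stage_succ (K : CochainComplex A ℤ) (n : ℕ) (s : Stage K n) :
    ∃ (s' : Stage K (n + 1)) (p : s'.I ⟶ s.I), s'.i ≫ p = trTrunc K n ≫ s.i ∧
      degreewiseEpiWithInjectiveKernel p := by
  haveI := s.strict
  haveI : (K.truncGE (-((n + 1 : ℕ) : ℤ))).IsStrictlyGE (-(((n + 1 : ℕ) : ℤ) + 1) + 1) := by
    have : -(((n + 1 : ℕ) : ℤ) + 1) + 1 = -((n + 1 : ℕ) : ℤ) := by ring
    rw [this]
    infer_instance
  haveI : s.I.IsStrictlyGE (-(((n + 1 : ℕ) : ℤ) + 1)) :=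
    isStrictlyGE_of_ge _ _ (-((n : ℤ) + 1)) (by push_cast; lia)
  obtain ⟨L, hL, i, p, _, hi', hp, fac⟩ := cm5a (trTrunc K n ≫ s.i) (-(((n + 1 : ℕ) : ℤ) + 1))
  refine ⟨⟨L, hL, ?_, i, hi'⟩, p, fac, hp⟩
  have h0 : degreewiseEpiWithInjectiveKernel (0 : s.I ⟶ 0) :=
    (degreewiseEpiWithInjectiveKernel_iff_of_isZero _ (Limits.isZero_zero _)).2 s.inj
  have h1 : degreewiseEpiWithInjectiveKernel (p ≫ (0 : s.I ⟶ 0)) :=
    MorphismProperty.comp_mem _ _ _ hp h0
  exact (degreewiseEpiWithInjectiveKernel_iff_of_isZero _ (Limits.isZero_zero _)).1 h1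

/-- the chosen stages -/
noncomputable def stage (K : CochainComplex A ℤ) : ∀ n, Stage K n
  | 0 => (nonempty_stage_zero K).some
  | n + 1 => (exists_stage_succ K n (stage K n)).choose

/-- the tower of K-injective complexes -/
noncomputable abbrev tI (K : CochainComplex A ℤ) (n : ℕ) : CochainComplex A ℤ := (stage K n).I

/-- the transition maps of the tower -/
noncomputable def tp (K : CochainComplex A ℤ) (n : ℕ) : tI K (n + 1) ⟶ tI K n :=
  (exists_stage_succ K n (stage K n)).choose_spec.choose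

lemma tp_spec (K : CochainComplex A ℤ) (n : ℕ) :
    (stage K (n + 1)).i ≫ tp K n = trTrunc K n ≫ (stage K n).i ∧
      degreewiseEpiWithInjectiveKernel (tp K n) :=
  (exists_stage_succ K n (stage K n)).choose_spec.choose_spec

/-- the maps from `K` to the tower -/
noncomputable def ta (K : CochainComplex A ℤ) (n : ℕ) : K ⟶ tI K n :=
  K.πTruncGE (-(n : ℤ)) ≫ (stage K n).i

@[reassoc (attr := simp)]
lemma ta_tp (K : CochainComplex A ℤ) (n : ℕ) : ta K (n + 1) ≫ tp K n = ta K n := by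
  dsimp only [ta]
  rw [Category.assoc, (tp_spec K n).1, π_trTrunc_assoc]

lemma quasiIsoAt_ta (K : CochainComplex A ℤ) (n : ℕ) (m : ℤ) (h : -(n : ℤ) ≤ m) :
    QuasiIsoAt (ta K n) m := by
  haveI := (stage K n).qi
  haveI := K.quasiIsoAt_πTruncGE (-(n : ℤ)) m h
  dsimp only [ta]
  exact quasiIsoAt_comp _ _ _

instance (K : CochainComplex A ℤ) (n : ℕ) (k : ℤ) : Injective ((tI K n).X k) := (stage K n).inj k

instance (K : CochainComplex A ℤ) (n : ℕ) : (tI K n).IsKInjective :=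
  haveI := (stage K n).strict
  isKInjective_of_injective _ (-((n : ℤ) + 1))

lemma tp_epi (K : CochainComplex A ℤ) (n : ℕ) (k : ℤ) : Epi ((tp K n).f k) :=
  ((tp_spec K n).2 k).1

lemma tp_injective_kernel (K : CochainComplex A ℤ) (n : ℕ) (k : ℤ) :
    Injective (kernel ((tp K n).f k)) :=
  ((tp_spec K n).2 k).2

end Helper5.KInj
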