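import Mathlib
import Groth.Agent.Lib.Helper5.KInj.Main
import Groth.Agent.Lib.Helper5.KInj.Tower

/-!
# K-injective resolutions of unbounded complexes

in an abelian category with enough injectives and exact countable products.
-/

open CategoryTheory Limits CochainComplex HomologicalComplex

namespace Helper5.KInj

universe v u

variable {A : Type u} [Category.{v} A] [Abelian A] [EnoughInjectives A]

lemma exists_section_tp (K : CochainComplex A ℤ) (n : ℕ) (k : ℤ) :
    ∃ σ : (tI K n).X k ⟶ (tI K (n + 1)).X k, σ ≫ (tp K n).f k = 𝟙 _ := by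
  obtain ⟨_, _, _, _, ⟨s⟩⟩ := (Abelian.epiWithInjectiveKernel_iff _).1 ((tp_spec K n).2 k)
  exact ⟨s.s, s.s_g⟩

variable [HasLimitsOfShape (Discrete ℕ) A] [HasExactLimitsOfShape (Discrete ℕ) A]

/-- **K-injective resolutions exist** in an abelian category with enough injectives and exact
countable products. -/
theorem exists_kinjective_resolution (K : CochainComplex A ℤ) :
    ∃ (I : CochainComplex A ℤ) (f : K ⟶ I), I.IsKInjective ∧ QuasiIso f := by
  refine ⟨holim (tI K) (tp K), holimLift (tI K) (tp K) (ta K) (ta_tp K),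
    isKInjective_holim _ _ (exists_section_tp K),
    quasiIso_holimLift _ _ (exists_section_tp K) _ _ (fun m => ⟨(-m).toNat, fun n hn => ?_⟩)⟩
  apply quasiIsoAt_ta
  have := Int.self_le_toNat (-m)
  have h2 : ((-m).toNat : ℤ) ≤ (n : ℤ) := by exact_mod_cast hn
  lia

end Helper5.KInj
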