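import Mathlib
import Groth.Agent.Lib.Helper5.KInj.Resolution

/-!
# Right derived functors via K-injective resolutions (homotopy category level)
-/

set_option autoImplicit false
universe w v u
open CategoryTheory Limits

namespace Helper5.KInj

section Res

/-- every complex has a K-injective resolution -/
def HasKInjRes (C : Type u) [Category.{v} C] [Abelian C] : Prop :=
  ∀ X : CochainComplex C ℤ, ∃ (I : CochainComplex C ℤ) (f : X ⟶ I), I.IsKInjective ∧ QuasiIso f

theorem hasKInjRes_of_exact_products {C : Type u} [Category.{v} C] [Abelian C] [EnoughInjectives C] [HasLimitsOfShape (Discrete ℕ) C]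
    [HasExactLimitsOfShape (Discrete ℕ) C] : HasKInjRes C :=
  exists_kinjective_resolution

end Res

section General

variable {C : Type u} [Category.{v} C] [Abelian C] [HasDerivedCategory.{w} C]
  {H : Type*} [Category H]

open DerivedCategory

/-- For K-injective `I`, the identity is terminal in the category of costructured arrows. -/
noncomputable def isTerminalMk (I : CochainComplex C ℤ) [I.IsKInjective] :
    IsTerminal (CostructuredArrow.mk
      (𝟙 (Qh.obj ((HomotopyCategory.quotient C (ComplexShape.up ℤ)).obj I))) :
      CostructuredArrow Qh (Qh.obj ((HomotopyCategory.quotient C (ComplexShape.up ℤ)).obj I))) := by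
  refine IsTerminal.ofUniqueHom (fun Y => ?_) (fun Y m => ?_)
  · exact CostructuredArrow.homMk
      ((CochainComplex.IsKInjective.Qh_map_bijective Y.left I).2 Y.hom).choose
      (by
        have := ((CochainComplex.IsKInjective.Qh_map_bijective Y.left I).2 Y.hom).choose_spec
        simpa using this)
  · apply CostructuredArrow.hom_ext
    apply (CochainComplex.IsKInjective.Qh_map_bijective Y.left I).1
    have h1 := ((CochainComplex.IsKInjective.Qh_map_bijective Y.left I).2 Y.hom).choose_spec
    have h2 := CostructuredArrow.w m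
    simp only [CostructuredArrow.mk_hom_eq_self] at h2
    simp only [CostructuredArrow.homMk_left]
    rw [h1, ← h2]
    exact (Category.comp_id _).symm

variable (F : HomotopyCategory C (ComplexShape.up ℤ) ⥤ H)

theorem hasPointwiseLeftKanExtensionAt_of_isKInjective (I : CochainComplex C ℤ)
    [I.IsKInjective] :
    Functor.HasPointwiseLeftKanExtensionAt Qh F
      (Qh.obj ((HomotopyCategory.quotient C (ComplexShape.up ℤ)).obj I)) :=
  ⟨⟨_, colimitOfDiagramTerminal (isTerminalMk I) _⟩⟩

theorem hasPointwiseRightDerivedFunctor (hC : HasKInjRes C) :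
    F.HasPointwiseRightDerivedFunctor (HomotopyCategory.quasiIso C (ComplexShape.up ℤ)) := by
  intro X
  obtain ⟨X, rfl⟩ := HomotopyCategory.quotient_obj_surjective X
  obtain ⟨I, f, hI, hf⟩ := hC X
  rw [F.hasPointwiseRightDerivedFunctorAt_iff_of_mem _
    ((HomotopyCategory.quotient C (ComplexShape.up ℤ)).map f)
    ((HomotopyCategory.quotient_map_mem_quasiIso_iff f).2
      ((HomologicalComplex.mem_quasiIso_iff f).2 hf)),
    F.hasPointwiseRightDerivedFunctorAt_iff Qh]
  exact hasPointwiseLeftKanExtensionAt_of_isKInjective F I

/-- The value of a right derived functor on a K-injective complex. -/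
theorem isIso_app_of_isKInjective (hC : HasKInjRes C) (RF : DerivedCategory C ⥤ H)
    (α : F ⟶ Qh ⋙ RF)
    [RF.IsRightDerivedFunctor α (HomotopyCategory.quasiIso C (ComplexShape.up ℤ))]
    (I : CochainComplex C ℤ) [I.IsKInjective] :
    IsIso (α.app ((HomotopyCategory.quotient C (ComplexShape.up ℤ)).obj I)) := by
  have := hasPointwiseRightDerivedFunctor F hC
  have hpt := Functor.isPointwiseLeftKanExtensionOfHasPointwiseRightDerivedFunctor
    (F' := RF) (α := α) (HomotopyCategory.quasiIso C (ComplexShape.up ℤ))
  have h1 := IsColimit.isIso_ι_app_of_isTerminal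
    (hpt (Qh.obj ((HomotopyCategory.quotient C (ComplexShape.up ℤ)).obj I))) _ (isTerminalMk I)
  have h2 : ((Functor.LeftExtension.mk RF α).coconeAt
      (Qh.obj ((HomotopyCategory.quotient C (ComplexShape.up ℤ)).obj I))).ι.app
      (CostructuredArrow.mk (𝟙 (Qh.obj ((HomotopyCategory.quotient C (ComplexShape.up ℤ)).obj I)))) =
      α.app ((HomotopyCategory.quotient C (ComplexShape.up ℤ)).obj I) ≫ RF.map (𝟙 _) := rfl
  rw [h2, CategoryTheory.Functor.map_id] at h1
  have h3 : α.app ((HomotopyCategory.quotient C (ComplexShape.up ℤ)).obj I) ≫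
      𝟙 (RF.obj (Qh.obj ((HomotopyCategory.quotient C (ComplexShape.up ℤ)).obj I))) =
      α.app ((HomotopyCategory.quotient C (ComplexShape.up ℤ)).obj I) := Category.comp_id _
  rw [h3] at h1
  exact h1

end General

end Helper5.KInj
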