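import Mathlib
import Groth.Agent.Lib.Helper5.KInj.Derived

/-!
# Right derived functors via K-injective resolutions (level of complexes)

For a functor `F : CochainComplex C ℤ ⥤ H` identifying homotopic maps, any right derived functor
of `F` with respect to quasi-isomorphisms (along `Q`) is computed by `F` on K-injective complexes.
-/

set_option autoImplicit false
universe w v u
open CategoryTheory Limits

namespace Helper5.KInj

variable {C : Type u} [Category.{v} C] [Abelian C] [HasDerivedCategory.{w} C]
  {H : Type*} [Category H]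

open DerivedCategory

lemma exists_Q_map_eq {X I : CochainComplex C ℤ} [I.IsKInjective] (g : Q.obj X ⟶ Q.obj I) :
    ∃ φ : X ⟶ I, Q.map φ = g := by
  obtain ⟨ψ, hψ⟩ := (CochainComplex.IsKInjective.Qh_map_bijective
    ((HomotopyCategory.quotient C (ComplexShape.up ℤ)).obj X) I).2 g
  obtain ⟨φ, rfl⟩ := (HomotopyCategory.quotient C (ComplexShape.up ℤ)).map_surjective ψ
  exact ⟨φ, hψ⟩

lemma nonempty_homotopy_of_Q_map_eq {X I : CochainComplex C ℤ} [I.IsKInjective] {φ φ' : X ⟶ I}
    (h : Q.map φ = Q.map φ') : Nonempty (Homotopy φ φ') := by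
  have h1 : (HomotopyCategory.quotient C (ComplexShape.up ℤ)).map φ =
      (HomotopyCategory.quotient C (ComplexShape.up ℤ)).map φ' :=
    (CochainComplex.IsKInjective.Qh_map_bijective
      ((HomotopyCategory.quotient C (ComplexShape.up ℤ)).obj X) I).1 h
  exact ⟨HomotopyCategory.homotopyOfEq _ _ h1⟩

variable (F : CochainComplex C ℤ ⥤ H)
  (hF : ∀ ⦃X Y : CochainComplex C ℤ⦄ (f g : X ⟶ Y), Homotopy f g → F.map f = F.map g)

/-- a chosen lift -/
noncomputable def liftQ {X I : CochainComplex C ℤ} [I.IsKInjective] (g : Q.obj X ⟶ Q.obj I) :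
    X ⟶ I := (exists_Q_map_eq g).choose

@[simp]
lemma Q_map_liftQ {X I : CochainComplex C ℤ} [I.IsKInjective] (g : Q.obj X ⟶ Q.obj I) :
    Q.map (liftQ g) = g := (exists_Q_map_eq g).choose_spec

include hF in
lemma map_eq_of_Q_map_eq {X I : CochainComplex C ℤ} [I.IsKInjective] {φ φ' : X ⟶ I}
    (h : Q.map φ = Q.map φ') : F.map φ = F.map φ' :=
  hF _ _ (nonempty_homotopy_of_Q_map_eq h).some

/-- the cocone exhibiting `F I` as the pointwise left Kan extension at `Q I` -/
noncomputable def coconeAtKInj (I : CochainComplex C ℤ) [I.IsKInjective] :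
    Cocone (CostructuredArrow.proj Q (Q.obj I) ⋙ F) where
  pt := F.obj I
  ι :=
    { app := fun j => F.map (liftQ j.hom)
      naturality := fun j j' u => by
        dsimp
        rw [Category.comp_id, ← F.map_comp]
        apply map_eq_of_Q_map_eq F hF
        rw [Q.map_comp, Q_map_liftQ, Q_map_liftQ]
        exact CostructuredArrow.w u }

/-- the cocone is a colimit -/
noncomputable def isColimitCoconeAtKInj (I : CochainComplex C ℤ) [I.IsKInjective] :
    IsColimit (coconeAtKInj F hF I) where
  desc s := s.ι.app (CostructuredArrow.mk (𝟙 (Q.obj I)))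
  fac s j := by
    have h := s.ι.naturality
      (CostructuredArrow.homMk (liftQ (X := j.left) (I := I) j.hom)
        (by
          have := Q_map_liftQ (X := j.left) (I := I) j.hom
          change Q.map (liftQ (X := j.left) (I := I) j.hom) ≫ 𝟙 (Q.obj I) = j.hom
          rw [this]
          exact Category.comp_id _) :
        j ⟶ CostructuredArrow.mk (𝟙 (Q.obj I)))
    exact h.trans (Category.comp_id _)
  uniq s m hm := by
    have h := hm (CostructuredArrow.mk (𝟙 (Q.obj I)))
    have key : (coconeAtKInj F hF I).ι.app (CostructuredArrow.mk (𝟙 (Q.obj I))) =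
        𝟙 (F.obj I) := by
      change F.map (liftQ (X := I) (I := I) (𝟙 (Q.obj I))) = _
      rw [← F.map_id]
      apply map_eq_of_Q_map_eq F hF
      rw [Q_map_liftQ, Q.map_id]
    have h2 : 𝟙 (F.obj I) ≫ m = s.ι.app (CostructuredArrow.mk (𝟙 (Q.obj I))) := by
      rw [← key]
      exact h
    exact (Category.id_comp m).symm.trans h2

include hF in
theorem hasPointwiseRightDerivedFunctorQ (hC : HasKInjRes C) :
    F.HasPointwiseRightDerivedFunctor (HomologicalComplex.quasiIso C (ComplexShape.up ℤ)) := by
  intro X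
  obtain ⟨I, f, hI, hf⟩ := hC X
  rw [F.hasPointwiseRightDerivedFunctorAt_iff_of_mem _ f
    ((HomologicalComplex.mem_quasiIso_iff f).2 hf),
    F.hasPointwiseRightDerivedFunctorAt_iff Q]
  exact ⟨⟨_, isColimitCoconeAtKInj F hF I⟩⟩

include hF in
/-- The value of a right derived functor on a K-injective complex. -/
theorem isIso_app_of_isKInjectiveQ (hC : HasKInjRes C) (RF : DerivedCategory C ⥤ H)
    (α : F ⟶ Q ⋙ RF)
    [RF.IsRightDerivedFunctor α (HomologicalComplex.quasiIso C (ComplexShape.up ℤ))]
    (I : CochainComplex C ℤ) [I.IsKInjective] :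
    IsIso (α.app I) := by
  have := hasPointwiseRightDerivedFunctorQ F hF hC
  have hpt := Functor.isPointwiseLeftKanExtensionOfHasPointwiseRightDerivedFunctor
    (F' := RF) (α := α) (HomologicalComplex.quasiIso C (ComplexShape.up ℤ))
  let e := IsColimit.coconePointUniqueUpToIso (isColimitCoconeAtKInj F hF I) (hpt (Q.obj I))
  have he : e.hom = α.app I := by
    change ((Functor.LeftExtension.mk RF α).coconeAt (Q.obj I)).ι.app
      (CostructuredArrow.mk (𝟙 (Q.obj I))) = α.app I
    change α.app I ≫ RF.map (𝟙 (Q.obj I)) = α.app I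
    rw [RF.map_id]
    exact Category.comp_id _
  rw [← he]
  infer_instance

end Helper5.KInj
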