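import Mathlib
import Groth.Agent.Lib.Helper5.KInj.Holim
import Groth.Agent.Lib.Helper5.KInj.DerivedQ

/-!
# Countable products of K-injective complexes are products in the derived category (helper5)
-/

set_option autoImplicit false
open CategoryTheory Limits CochainComplex HomComplex

namespace Groth.Agent.Lib.Helper5.ProdD

open Helper5.KInj DerivedCategory

universe w v u

variable {A : Type u} [Category.{v} A] [Abelian A] [HasLimitsOfShape (Discrete ℕ) A]

variable (I : ℕ → CochainComplex A ℤ)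

/-- a map to the termwise product all of whose components are null-homotopic is null-homotopic -/
theorem nonempty_homotopy_zero_of_π {M : CochainComplex A ℤ} (f : M ⟶ prodCx I)
    (h : ∀ n, Nonempty (Homotopy (f ≫ prodCx.π I n) 0)) : Nonempty (Homotopy f 0) := by
  have hex : ∀ n, ∃ z : Cochain M (I n) (-1),
      Cochain.ofHom (f ≫ prodCx.π I n) = δ (-1) 0 z := by
    intro n
    obtain ⟨z, hz⟩ := Cochain.equivHomotopy _ _ (h n).some
    refine ⟨z, ?_⟩
    rw [hz, Cochain.ofHom_zero, add_zero]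
  choose zn hzn using hex
  let z : Cochain M (prodCx I) (-1) :=
    Cochain.mk (fun p q hpq => prodCx.liftX q (fun n => (zn n).v p q hpq))
  have hz : ∀ n, z.comp (Cochain.ofHom (prodCx.π I n)) (add_zero (-1)) = zn n := by
    intro n
    ext p q hpq
    rw [Cochain.comp_zero_cochain_v, Cochain.ofHom_v]
    exact prodCx.liftX_π _ _ _
  refine ⟨(Cochain.equivHomotopy f 0).symm ⟨z, ?_⟩⟩
  rw [Cochain.ofHom_zero, add_zero]
  ext p
  apply prodCx.hom_extX
  intro n
  have h1 := Cochain.congr_v (hzn n) p p (add_zero p)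
  have h2 : (δ (-1) 0 z).comp (Cochain.ofHom (prodCx.π I n)) (add_zero 0) =
      δ (-1) 0 (zn n) := by
    rw [← δ_comp_ofHom, hz]
  have h3 := Cochain.congr_v h2 p p (add_zero p)
  rw [Cochain.comp_zero_cochain_v, Cochain.ofHom_v] at h3
  rw [Cochain.ofHom_v] at h1
  rw [Cochain.ofHom_v, h3, ← h1]
  rfl

variable [HasDerivedCategory.{w} A] [∀ n, (I n).IsKInjective]

/-- joint monicity of the projections `Q(∏ I_n) ⟶ Q(I_n)` -/
theorem Q_hom_ext {T : DerivedCategory A} {a b : T ⟶ Q.obj (prodCx I)}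
    (h : ∀ n, a ≫ Q.map (prodCx.π I n) = b ≫ Q.map (prodCx.π I n)) : a = b := by
  obtain ⟨T', ⟨eT⟩⟩ : ∃ T' : CochainComplex A ℤ, Nonempty (Q.obj T' ≅ T) :=
    ⟨_, ⟨Q.objObjPreimageIso T⟩⟩
  haveI := isKInjective_prodCx I
  rw [← cancel_epi eT.hom]
  obtain ⟨a', ha'⟩ := exists_Q_map_eq (eT.hom ≫ a)
  obtain ⟨b', hb'⟩ := exists_Q_map_eq (eT.hom ≫ b)
  rw [← ha', ← hb']
  have hn : ∀ n, Nonempty (Homotopy ((a' - b') ≫ prodCx.π I n) 0) := by
    intro n
    apply nonempty_homotopy_of_Q_map_eq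
    rw [Functor.map_zero, Preadditive.sub_comp, Functor.map_sub, Functor.map_comp,
      Functor.map_comp, ha', hb', Category.assoc, Category.assoc, h n, sub_self]
  obtain ⟨H⟩ := nonempty_homotopy_zero_of_π I (a' - b') hn
  have h0 : Q.map (a' - b') = 0 := by
    rw [DerivedCategory.Q_map_eq_of_homotopy (C := A) H, Functor.map_zero]
  rwa [Functor.map_sub, sub_eq_zero] at h0

/-- existence of lifts to `Q(∏ I_n)` -/
theorem exists_Q_lift {T : DerivedCategory A} (g : ∀ n, T ⟶ Q.obj (I n)) :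
    ∃ l : T ⟶ Q.obj (prodCx I), ∀ n, l ≫ Q.map (prodCx.π I n) = g n := by
  obtain ⟨T', ⟨eT⟩⟩ : ∃ T' : CochainComplex A ℤ, Nonempty (Q.obj T' ≅ T) :=
    ⟨_, ⟨Q.objObjPreimageIso T⟩⟩
  choose g' hg' using fun n => exists_Q_map_eq (eT.hom ≫ g n)
  refine ⟨eT.inv ≫ Q.map (prodCx.lift g'), fun n => ?_⟩
  rw [Category.assoc, ← Functor.map_comp, prodCx.lift_π, hg', Iso.inv_hom_id_assoc]

/-- a chosen lift -/
noncomputable def Qlift {T : DerivedCategory A} (g : ∀ n, T ⟶ Q.obj (I n)) :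
    T ⟶ Q.obj (prodCx I) := (exists_Q_lift I g).choose

@[reassoc (attr := simp)]
lemma Qlift_π {T : DerivedCategory A} (g : ∀ n, T ⟶ Q.obj (I n)) (n : ℕ) :
    Qlift I g ≫ Q.map (prodCx.π I n) = g n := (exists_Q_lift I g).choose_spec n

/-- `Q(∏ I_n)` is the product of the `Q(I_n)` in the derived category -/
noncomputable def isLimitFan :
    IsLimit (Fan.mk (Q.obj (prodCx I)) (fun n => Q.map (prodCx.π I n))) :=
  Fan.IsLimit.mk _ (fun s => Qlift I s.proj) (fun s n => Qlift_π I s.proj n)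
    (fun s m hm => Q_hom_ext I (fun n => by rw [Qlift_π]; exact hm n))

end Groth.Agent.Lib.Helper5.ProdD
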